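import Groth.Agent.Lib.GrpdQuot.EffectiveRel
import Mathlib.AlgebraicGeometry.Sites.Fpqc
import Mathlib.AlgebraicGeometry.Morphisms.Flat
import Mathlib.CategoryTheory.Sites.Over
import Mathlib.CategoryTheory.Monoidal.Cartesian.Over

/-!
# Sections of the fpqc quotient sheaf of an equivalence relation, in terms of points
-/

universe u

open CategoryTheory CategoryTheory.Limits AlgebraicGeometry Opposite

namespace GrothLib.QuotSec13

noncomputable section

variable {S : Scheme.{u}} {R U : Over S} (s t : R ⟶ U)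

set_option quotPrecheck false in
local notation "K₀" => Scheme.fpqcPrecoverage

/-- The projection on sections. -/
def cls {T : Over S} (a : T ⟶ U) : (QuotSh.quot K₀ s t).obj.obj (op T) :=
  (QuotSh.J K₀ S).uliftYonedaEquiv.{u + 1}
    ((QuotSh.J K₀ S).uliftYoneda.{u + 1}.map a ≫ (QuotSh.repIsoUliftYoneda K₀ U).inv ≫ QuotSh.quotπ K₀ s t)

/-- The element of a morphism out of a representable sheaf. -/
def elt {T : Over S} {F : QuotSh.Sh K₀ S} (σ : QuotSh.rep K₀ T ⟶ F) : F.obj.obj (op T) :=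
  (QuotSh.J K₀ S).uliftYonedaEquiv.{u + 1} ((QuotSh.repIsoUliftYoneda K₀ T).inv ≫ σ)

theorem repIso_inv_naturality {V W : Over S} (g : V ⟶ W) :
    (QuotSh.repIsoUliftYoneda K₀ V).inv ≫ QuotSh.repMap K₀ g =
      (QuotSh.J K₀ S).uliftYoneda.{u + 1}.map g ≫ (QuotSh.repIsoUliftYoneda K₀ W).inv :=
  ((GrothLib.GrpdQuot.repNatIso K₀).inv.naturality g).symm

theorem elt_injective {T : Over S} {F : QuotSh.Sh K₀ S} :
    Function.Injective (elt (T := T) (F := F)) := fun a b h =>
  (cancel_epi (QuotSh.repIsoUliftYoneda K₀ T).inv).1 ((QuotSh.J K₀ S).uliftYonedaEquiv.injective h)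

theorem elt_repMap {T T' : Over S} {F : QuotSh.Sh K₀ S} (g : T' ⟶ T) (σ : QuotSh.rep K₀ T ⟶ F) :
    elt (QuotSh.repMap K₀ g ≫ σ) = F.obj.map g.op (elt σ) := by
  rw [elt, elt, GrothendieckTopology.uliftYonedaEquiv_naturality, ← Category.assoc, repIso_inv_naturality,
    Category.assoc]

theorem elt_quotπ {T : Over S} (a : T ⟶ U) : elt (QuotSh.repMap K₀ a ≫ QuotSh.quotπ K₀ s t) = cls s t a := by
  rw [elt, cls, ← Category.assoc, repIso_inv_naturality, Category.assoc]

theorem cls_map {T T' : Over S} (g : T' ⟶ T) (a : T ⟶ U) :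
    (QuotSh.quot K₀ s t).obj.map g.op (cls s t a) = cls s t (g ≫ a) := by
  rw [cls, GrothendieckTopology.uliftYonedaEquiv_naturality, cls, Functor.map_comp, Category.assoc]

theorem cls_condition {T : Over S} (r : T ⟶ R) : cls s t (r ≫ s) = cls s t (r ≫ t) := by
  rw [← elt_quotπ, ← elt_quotπ]
  congr 1
  have e : ∀ (f : R ⟶ U), QuotSh.repMap K₀ (r ≫ f) = QuotSh.repMap K₀ r ≫ QuotSh.repMap K₀ f :=
    fun f => (GrothLib.GrpdQuot.repFunctor K₀).map_comp r f
  rw [e, e, Category.assoc, Category.assoc, QuotSh.quot_condition]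

theorem exists_of_cls_eq [IsEquivalenceRelation s t] {T : Over S} {a b : T ⟶ U} (h : cls s t a = cls s t b) :
    ∃ r : T ⟶ R, r ≫ s = a ∧ r ≫ t = b := by
  rw [← elt_quotπ, ← elt_quotπ] at h
  obtain ⟨l, hl₁, hl₂⟩ := (GrothLib.GrpdQuot.isPullback_quotSheafπ K₀ s t).exists_lift _ _ (elt_injective h)
  let e := GrothLib.GrpdQuot.repNatIso K₀ (S := S)
  obtain ⟨r, hr⟩ := (QuotSh.J K₀ S).uliftYoneda.{u + 1}.map_surjective ((e.app T).inv ≫ l ≫ (e.app R).hom)
  have key : ∀ (f : R ⟶ U) (c : T ⟶ U), l ≫ QuotSh.repMap K₀ f = QuotSh.repMap K₀ c → r ≫ f = c := by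
    intro f c hc
    apply (QuotSh.J K₀ S).uliftYoneda.{u + 1}.map_injective
    rw [Functor.map_comp, hr, Category.assoc, Category.assoc]
    have := e.hom.naturality f
    rw [show (e.app R).hom ≫ (QuotSh.J K₀ S).uliftYoneda.map f =
      QuotSh.repMap K₀ f ≫ e.hom.app U from this.symm, reassoc_of% hc]
    have := e.hom.naturality c
    rw [show QuotSh.repMap K₀ c ≫ e.hom.app U = e.hom.app T ≫ (QuotSh.J K₀ S).uliftYoneda.map c from this,
      Iso.app_inv, Iso.inv_hom_id_app_assoc]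
  exact ⟨r, key s a hl₁, key t b hl₂⟩

/-- Sections of a sheaf agree if they do so on a cover. -/
theorem ext_of_cover {F : QuotSh.Sh K₀ S} {T : Over S} {x y : F.obj.obj (op T)} (C : Presieve T.left)
    (hC : C ∈ K₀ T.left)
    (h : ∀ ⦃V : Scheme.{u}⦄ (f : V ⟶ T.left), C f →
      F.obj.map (Over.homMk f rfl : Over.mk (f ≫ T.hom) ⟶ T).op x =
        F.obj.map (Over.homMk f rfl : Over.mk (f ≫ T.hom) ⟶ T).op y) : x = y := by
  have hS : (Sieve.overEquiv T).symm (Sieve.generate C) ∈ QuotSh.J K₀ S T := by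
    rw [GrothendieckTopology.mem_over_iff, OrderIso.apply_symm_apply]
    exact Precoverage.generate_mem_toGrothendieck hC
  refine ((isSheaf_iff_isSheaf_of_type _ _).1 F.property _ hS).isSeparatedFor.ext fun W g hg => ?_
  obtain ⟨V, a, f, hf, e⟩ := (Sieve.overEquiv_symm_iff _ g).1 hg
  let b : W ⟶ Over.mk (f ≫ T.hom) := Over.homMk a (by
    change a ≫ f ≫ T.hom = W.hom
    rw [reassoc_of% e, Over.w])
  rw [show g = b ≫ Over.homMk f rfl from Over.OverMorphism.ext e.symm, op_comp, Functor.map_comp,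
    ConcreteCategory.comp_apply, ConcreteCategory.comp_apply, h f hf]

/-- Sections agreeing on a faithfully flat quasi-compact covering agree. -/
theorem ext_of_fpqc {F : QuotSh.Sh K₀ S} {T T' : Over S} (c : T' ⟶ T) [Flat c.left] [Surjective c.left]
    [QuasiCompact c.left] {x y : F.obj.obj (op T)} (h : F.obj.map c.op x = F.obj.map c.op y) : x = y := by
  refine ext_of_cover _ (Scheme.Hom.singleton_mem_fpqcPrecoverage c.left) ?_
  rintro V f ⟨⟩
  let b : Over.mk (c.left ≫ T.hom) ⟶ T' := Over.homMk (𝟙 _) (by simp)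
  rw [show (Over.homMk c.left rfl : Over.mk (c.left ≫ T.hom) ⟶ T) = b ≫ c from
      Over.OverMorphism.ext (Category.id_comp _).symm, op_comp, Functor.map_comp,
    ConcreteCategory.comp_apply, ConcreteCategory.comp_apply, h]

/-- Sections agreeing on an open cover agree. -/
theorem ext_of_openCover {F : QuotSh.Sh K₀ S} {T : Over S} (𝒰 : T.left.OpenCover) {x y : F.obj.obj (op T)}
    (h : ∀ j, F.obj.map (Over.homMk (𝒰.f j) rfl : Over.mk (𝒰.f j ≫ T.hom) ⟶ T).op x =
      F.obj.map (Over.homMk (𝒰.f j) rfl : Over.mk (𝒰.f j ≫ T.hom) ⟶ T).op y) : x = y := by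
  refine ext_of_cover _ (Scheme.zariskiPrecoverage_le_fpqcPrecoverage _ 𝒰.mem₀) ?_
  rintro V f ⟨j⟩
  exact h j

/-- Locally for the fpqc topology a section of the quotient comes from `U`: over every affine scheme a single
faithfully flat quasi-compact covering suffices. -/
theorem exists_lift_affine {T : Over S} [IsAffine T.left] (x : (QuotSh.quot K₀ s t).obj.obj (op T)) :
    ∃ (V : Over S) (c : V ⟶ T) (v : V ⟶ U), Flat c.left ∧ Surjective c.left ∧ QuasiCompact c.left ∧
      cls s t v = (QuotSh.quot K₀ s t).obj.map c.op x := by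
  haveI : Epi (QuotSh.quotπ K₀ s t) := coequalizer.π_epi
  haveI hls : Sheaf.IsLocallySurjective ((QuotSh.repIsoUliftYoneda K₀ U).inv ≫ QuotSh.quotπ K₀ s t) :=
    (Sheaf.isLocallySurjective_iff_epi _).mpr (epi_comp _ _)
  have hS := Presheaf.imageSieve_mem (QuotSh.J K₀ S)
    ((QuotSh.repIsoUliftYoneda K₀ U).inv ≫ QuotSh.quotπ K₀ s t).hom x
  obtain ⟨C, hC, hle⟩ := Precoverage.mem_toGrothendieck_iff_of_isStableUnderComposition.1
    (show Sieve.overEquiv T _ ∈ Scheme.fpqcTopology T.left from hS)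
  have hget : ∀ ⦃V : Scheme.{u}⦄ (f : V ⟶ T.left), C f → ∃ v : Over.mk (f ≫ T.hom) ⟶ U,
      cls s t v = (QuotSh.quot K₀ s t).obj.map (Over.homMk f rfl : Over.mk (f ≫ T.hom) ⟶ T).op x := by
    intro V f hf
    obtain ⟨⟨v⟩, hv⟩ := (Sieve.overEquiv_iff _ f).1 (hle _ _ hf)
    refine ⟨v, Eq.trans ?_ hv⟩
    rw [cls, GrothendieckTopology.uliftYonedaEquiv_comp, GrothendieckTopology.uliftYonedaEquiv_uliftYoneda_map]
  obtain ⟨E, rfl⟩ := C.exists_eq_preZeroHypercover
  haveI : QuasiCompactCover E := Scheme.presieve₀_mem_qcPrecoverage_iff.1 hC.1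
  have hflat : ∀ i, Flat (E.f i) := fun i => hC.2.2 ⟨i⟩
  obtain ⟨n, ι, W, hW, hcov⟩ := QuasiCompactCover.exists_isAffineOpen_of_isCompact E (U := ⊤)
    (isAffineOpen_top T.left).isCompact
  haveI : ∀ i, IsAffine ((W i).toScheme) := hW
  let g : ∀ i, (W i).toScheme ⟶ T.left := fun i => (W i).ι ≫ E.f (ι i)
  let c : (∐ fun i => (W i).toScheme) ⟶ T.left := Sigma.desc g
  have hget' : ∀ i, ∃ v : Over.mk (Sigma.ι (fun i => (W i).toScheme) i ≫ c ≫ T.hom) ⟶ U,
      cls s t v = (QuotSh.quot K₀ s t).obj.map (Over.homMk (g i) (by simp [c]) :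
        Over.mk (Sigma.ι (fun i => (W i).toScheme) i ≫ c ≫ T.hom) ⟶ T).op x := by
    intro i
    obtain ⟨v, hv⟩ := hget (E.f (ι i)) ⟨ι i⟩
    let b : Over.mk (Sigma.ι (fun i => (W i).toScheme) i ≫ c ≫ T.hom) ⟶ Over.mk (E.f (ι i) ≫ T.hom) :=
      Over.homMk (W i).ι (by simp [c, g])
    refine ⟨b ≫ v, ?_⟩
    rw [← cls_map, hv, ← ConcreteCategory.comp_apply, ← Functor.map_comp, ← op_comp]
    rfl
  choose v hv using hget'
  let V : Over S := Over.mk (c ≫ T.hom)
  let vv : V ⟶ U := Over.homMk (Sigma.desc fun i => (v i).left) (Sigma.hom_ext _ _ fun i => by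
    rw [← Category.assoc, Sigma.ι_desc]
    exact Over.w (v i))
  refine ⟨V, Over.homMk c rfl, vv, ?_, ?_, ?_, ?_⟩
  · show Flat c
    haveI : IsZariskiLocalAtSource (@Flat : MorphismProperty Scheme.{u}) := HasRingHomProperty.instIsZariskiLocalAtSource
    rw [IsZariskiLocalAtSource.iff_of_openCover (P := @Flat) (sigmaOpenCover _)]
    intro i
    rw [show (sigmaOpenCover fun i => (W i).toScheme).f i ≫ c = g i from Sigma.ι_desc _ _]
    haveI := hflat (ι i)
    show Flat ((W i).ι ≫ E.f (ι i))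
    infer_instance
  · show Surjective c
    refine ⟨fun p => ?_⟩
    obtain ⟨_, ⟨i, rfl⟩, q, hq, rfl⟩ := hcov.ge (TopologicalSpace.Opens.mem_top p)
    let q' : ((W i).toScheme : Scheme.{u}) := ⟨q, hq⟩
    refine ⟨Sigma.ι (fun i => (W i).toScheme) i q', ?_⟩
    have h1 := congrArg (fun m => m q') (Sigma.ι_desc g i)
    simp only [Scheme.Hom.comp_apply] at h1
    exact h1
  · show QuasiCompact c
    infer_instance
  · refine ext_of_openCover (T := V) (sigmaOpenCover _) fun i => ?_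
    rw [cls_map, ← ConcreteCategory.comp_apply, ← Functor.map_comp, ← op_comp]
    refine Eq.trans (congrArg (cls s t) ?_) ((hv i).trans ?_)
    · apply Over.OverMorphism.ext
      exact Sigma.ι_desc (fun i => (v i).left) i
    · congr 4
      apply Over.OverMorphism.ext
      exact (Sigma.ι_desc g i).symm

end

end GrothLib.QuotSec13
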