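import Groth.Agent.Lib.QuotSec13.Open
import Groth.Agent.Lib.IdealDescFpqc.Main
import Mathlib.AlgebraicGeometry.Morphisms.FlatDescent

/-!
# Sections of the fpqc quotient of an equivalence relation with closed graph are closed stable subschemes
-/

universe u

set_option backward.isDefEq.respectTransparency.types false

open CategoryTheory CategoryTheory.Limits AlgebraicGeometry Opposite MonoidalCategory CartesianMonoidalCategory

namespace GrothLib.QuotSec13

noncomputable section

theorem exists_lift_iff_ker_le {A B C : Scheme.{u}} (i : A ⟶ B) [IsClosedImmersion i] (y : C ⟶ B) :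
    (∃ z : C ⟶ A, z ≫ i = y) ↔ i.ker ≤ y.ker :=
  ⟨fun ⟨z, hz⟩ => hz ▸ z.le_ker_comp i, fun h => ⟨IsClosedImmersion.lift i y h, IsClosedImmersion.lift_fac i y h⟩⟩

theorem comap_le_ker_iff {A B C : Scheme.{u}} (K : B.IdealSheafData) (f : A ⟶ B) (y : C ⟶ A) :
    K.comap f ≤ y.ker ↔ K ≤ (y ≫ f).ker := by
  constructor
  · intro h
    obtain ⟨z, hz⟩ := (exists_lift_iff_ker_le (K.comap f).subschemeι y).2 (by rwa [Scheme.IdealSheafData.ker_subschemeι])
    have e : (z ≫ (K.comapIso f).hom ≫ pullback.snd _ _) ≫ K.subschemeι = y ≫ f := by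
      rw [← hz, Category.assoc, Category.assoc, Category.assoc, ← pullback.condition,
        Scheme.IdealSheafData.comapIso_hom_fst_assoc]
    have h2 := (z ≫ (K.comapIso f).hom ≫ pullback.snd _ _).le_ker_comp K.subschemeι
    rwa [Scheme.IdealSheafData.ker_subschemeι, e] at h2
  · intro h
    obtain ⟨z, hz⟩ := (exists_lift_iff_ker_le K.subschemeι (y ≫ f)).2 (by rwa [Scheme.IdealSheafData.ker_subschemeι])
    have h2 := (pullback.lift y z hz.symm).le_ker_comp (pullback.fst f K.subschemeι)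
    rwa [pullback.lift_fst] at h2

theorem ext_of_factor {B : Scheme.{u}} (I J : B.IdealSheafData)
    (h : ∀ {C : Scheme.{u}} (y : C ⟶ B), I ≤ y.ker ↔ J ≤ y.ker) : I = J := by
  have h1 := (h J.subschemeι).2
  have h2 := (h I.subschemeι).1
  rw [Scheme.IdealSheafData.ker_subschemeι] at h1 h2
  exact le_antisymm (h1 le_rfl) (h2 le_rfl)

/-- A closed immersion having sections fpqc-locally on the base is an isomorphism. -/
theorem isIso_of_sections {P T' : Scheme.{u}} (m : P ⟶ T') [IsClosedImmersion m] (𝒲 : T'.OpenCover)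
    (h : ∀ j, ∃ (X : Scheme.{u}) (q : X ⟶ 𝒲.X j) (l : X ⟶ P), Flat q ∧ Surjective q ∧ QuasiCompact q ∧
      l ≫ m = q ≫ 𝒲.f j) : IsIso m := by
  refine (IsZariskiLocalAtTarget.iff_of_openCover (P := MorphismProperty.isomorphisms Scheme.{u}) 𝒲).2 fun j => ?_
  obtain ⟨X, q, l, h1, h2, h3, hl⟩ := h j
  haveI := h1; haveI := h2; haveI := h3
  refine MorphismProperty.of_pullback_snd_of_descendsAlong (P := MorphismProperty.isomorphisms Scheme.{u})
    (Q := @Surjective ⊓ @Flat ⊓ @QuasiCompact) (g := q) ⟨⟨inferInstance, inferInstance⟩, inferInstance⟩ ?_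
  let n := pullback.snd (pullback.snd m (𝒲.f j)) q
  haveI : Mono n := inferInstance
  haveI : IsSplitEpi n :=
    ⟨⟨⟨pullback.lift (pullback.lift l q hl) (𝟙 _) (by rw [pullback.lift_snd, Category.id_comp]),
      pullback.lift_snd _ _ _⟩⟩⟩
  exact isIso_of_mono_of_isSplitEpi n

variable {S : Scheme.{u}} {R U : Over S} (s t : R ⟶ U) {T : Over S}

set_option quotPrecheck false in
local notation "K₀" => Scheme.fpqcPrecoverage

theorem desc_of_closed {A B : Over S} (i : A ⟶ B) [IsClosedImmersion i.left] {T'' T' : Over S} (q : T'' ⟶ T')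
    (x : T' ⟶ B) (h1 : Flat q.left) (h2 : Surjective q.left) (h3 : QuasiCompact q.left)
    (h : ∃ z : T'' ⟶ A, z ≫ i = q ≫ x) : ∃ z : T' ⟶ A, z ≫ i = x := by
  obtain ⟨z, hz⟩ := h
  haveI : IsClosedImmersion (pullback.fst x.left i.left) :=
    MorphismProperty.of_isPullback (P := @IsClosedImmersion) (IsPullback.of_hasPullback x.left i.left).flip ‹_›
  haveI : IsIso (pullback.fst x.left i.left) := by
    refine MorphismProperty.of_pullback_snd_of_descendsAlong (P := MorphismProperty.isomorphisms Scheme.{u})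
      (Q := @Surjective ⊓ @Flat ⊓ @QuasiCompact) (g := q.left) ⟨⟨h2, h1⟩, h3⟩ ?_
    let n := pullback.snd (pullback.fst x.left i.left) q.left
    haveI : Mono n := inferInstance
    haveI : IsSplitEpi n :=
      ⟨⟨⟨pullback.lift (pullback.lift q.left z.left (congrArg CommaMorphism.left hz).symm) (𝟙 _)
        (by rw [pullback.lift_fst, Category.id_comp]), pullback.lift_snd _ _ _⟩⟩⟩
    exact isIso_of_mono_of_isSplitEpi n
  have e : (inv (pullback.fst x.left i.left) ≫ pullback.snd x.left i.left) ≫ i.left = x.left := by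
    rw [Category.assoc, ← pullback.condition, IsIso.inv_hom_id_assoc]
  refine ⟨Over.homMk (inv (pullback.fst x.left i.left) ≫ pullback.snd x.left i.left) ?_, Over.OverMorphism.ext e⟩
  rw [← Over.w i, ← Category.assoc, e, Over.w]

/-- Sections of the quotient by an equivalence relation with closed graph are closed stable subschemes. -/
theorem exists_closed' [IsEquivalenceRelation s t]
    (hc : IsClosedImmersion (lift t s).left) (x₀ : (QuotSh.quot K₀ s t).obj.obj (op T)) :
    ∃ (Z : Over S) (i : Z ⟶ U ⊗ T), IsClosedImmersion i.left ∧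
      (∀ {T' : Over S} (x : T' ⟶ U ⊗ T), (∃ z : T' ⟶ Z, z ≫ i = x) ↔ Compat s t x₀ x) := by
  classical
  haveI := hc
  let 𝒰 := T.left.affineCover
  let Tj : 𝒰.I₀ → Over S := fun j => Over.mk (𝒰.f j ≫ T.hom)
  let ιj : ∀ j, Tj j ⟶ T := fun j => Over.homMk (𝒰.f j) rfl
  have hex : ∀ j, ∃ (V : Over S) (c : V ⟶ Tj j) (v : V ⟶ U), Flat c.left ∧ Surjective c.left ∧
      QuasiCompact c.left ∧ cls s t v = (QuotSh.quot K₀ s t).obj.map (c ≫ ιj j).op x₀ := by
    intro j
    haveI : IsAffine (Tj j).left := inferInstanceAs (IsAffine (𝒰.X j))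
    obtain ⟨V, c, v, hf, hs, hq, hv⟩ := exists_lift_affine s t ((QuotSh.quot K₀ s t).obj.map (ιj j).op x₀)
    refine ⟨V, c, v, hf, hs, hq, ?_⟩
    rw [hv, op_comp, Functor.map_comp, ConcreteCategory.comp_apply]
  choose V c v hcf hcs hcq hv using hex
  let d : ∀ j, V j ⟶ T := fun j => c j ≫ ιj j
  let κ : ∀ j, U ⊗ V j ⟶ U ⊗ U := fun j => lift (snd U (V j) ≫ v j) (fst U (V j))
  let I : ∀ j, (U ⊗ V j).left.IdealSheafData := fun j => (lift t s).left.ker.comap (κ j).left
  have chart : ∀ (j : 𝒰.I₀) {M : Over S} (y : M ⟶ U ⊗ V j),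
      I j ≤ y.left.ker ↔ Compat s t x₀ (y ≫ (U ◁ d j)) := by
    intro j M y
    have e : I j ≤ y.left.ker ↔ ∃ r : M ⟶ R, r ≫ lift t s = y ≫ κ j := by
      rw [comap_le_ker_iff, ← exists_lift_iff_ker_le, ← Over.comp_left]
      constructor
      · rintro ⟨z, hz⟩
        exact ⟨Over.homMk z (by rw [← Over.w (lift t s), reassoc_of% hz, Over.w]), Over.OverMorphism.ext hz⟩
      · rintro ⟨r, hr⟩
        exact ⟨r.left, congrArg CommaMorphism.left hr⟩
    rw [e]
    unfold Compat
    simp only [κ, Category.assoc, whiskerLeft_fst, whiskerLeft_snd]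
    have hv' : (QuotSh.quot K₀ s t).obj.map (y ≫ snd U (V j) ≫ d j).op x₀ = cls s t (y ≫ snd U (V j) ≫ v j) := by
      rw [← Category.assoc y, ← Category.assoc y, ← cls_map (g := y ≫ snd U (V j)), hv, op_comp,
        Functor.map_comp, ConcreteCategory.comp_apply]
    rw [hv']
    constructor
    · rintro ⟨r, hr⟩
      have h1 := congrArg (· ≫ fst U U) hr
      have h2 := congrArg (· ≫ snd U U) hr
      simp only [Category.assoc, lift_fst, lift_snd] at h1 h2
      rw [← h1, ← h2, cls_condition]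
    · intro h
      obtain ⟨r, hrs, hrt⟩ := exists_of_cls_eq s t h
      refine ⟨r, ?_⟩
      apply CartesianMonoidalCategory.hom_ext
      · simpa using hrt
      · simpa using hrs
  let g : ∀ j, (U ⊗ V j).left ⟶ (U ⊗ T).left := fun j => (U ◁ d j).left
  have hgd : ∀ j, g j = (U ◁ c j).left ≫ (U ◁ ιj j).left := fun j => by
    show (U ◁ d j).left = _
    rw [← Over.comp_left, ← MonoidalCategory.whiskerLeft_comp]
  have hop : ∀ j, IsOpenImmersion (U ◁ ιj j).left := fun j =>
    prop_whiskerLeft @IsOpenImmersion U (ιj j) (inferInstanceAs (IsOpenImmersion (𝒰.f j)))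
  have hfc : ∀ j, Flat (U ◁ c j).left := fun j => prop_whiskerLeft @Flat U (c j) (hcf j)
  have hflat : ∀ j, Flat (g j) := fun j => by
    haveI := hop j; haveI := hfc j
    rw [hgd]; infer_instance
  have hcover : ∀ w : (U ⊗ T).left, ∃ j, w ∈ Set.range (U ◁ ιj j).left := fun w => by
    obtain ⟨j, p, hp⟩ := 𝒰.exists_eq ((snd U T).left w)
    exact ⟨j, by rw [range_whiskerLeft]; exact ⟨p, hp⟩⟩
  have hqc : QuasiCompactCover (PreZeroHypercover.mk 𝒰.I₀ (fun j => (U ⊗ V j).left) g) := by
    let E₁ : PreZeroHypercover.{u} (U ⊗ T).left :=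
      PreZeroHypercover.mk 𝒰.I₀ (fun j => (U ⊗ Tj j).left) fun j => (U ◁ ιj j).left
    haveI : QuasiCompactCover E₁ := ⟨fun {W} hW => IsCompactOpenCovered.of_isOpenMap
      (fun j => (E₁.f j).continuous) (fun j => by haveI := hop j; exact (U ◁ ιj j).left.isOpenEmbedding.isOpenMap)
      (fun w _ => hcover w) W.2 hW.isCompact⟩
    let F : ∀ j : E₁.I₀, PreZeroHypercover.{u} (E₁.X j) := fun j => PreZeroHypercover.singleton (U ◁ c j).left
    haveI : ∀ j, QuasiCompactCover (F j) := fun j => by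
      haveI : Surjective (U ◁ c j).left := prop_whiskerLeft @Surjective U (c j) (hcs j)
      haveI : QuasiCompact (U ◁ c j).left := prop_whiskerLeft @QuasiCompact U (c j) (hcq j)
      exact QuasiCompactCover.singleton _
    exact QuasiCompactCover.of_hom (𝒱 := E₁.bind F)
      { s₀ := fun p => p.1
        h₀ := fun p => 𝟙 _
        w₀ := fun p => (Category.id_comp _).trans (hgd p.1) }
  have hcocycle : ∀ j l, (I j).comap (pullback.fst (g j) (g l)) = (I l).comap (pullback.snd (g j) (g l)) := by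
    intro j l
    apply ext_of_factor
    intro C y
    refine Iff.trans (comap_le_ker_iff (I j) _ y) (Iff.trans ?_ (comap_le_ker_iff (I l) _ y).symm)
    let M : Over S := Over.mk (y ≫ pullback.fst (g j) (g l) ≫ (U ⊗ V j).hom)
    let y₁ : M ⟶ U ⊗ V j := Over.homMk (y ≫ pullback.fst (g j) (g l)) (Category.assoc _ _ _)
    let y₂ : M ⟶ U ⊗ V l := Over.homMk (y ≫ pullback.snd (g j) (g l)) (by
      show (y ≫ pullback.snd (g j) (g l)) ≫ (U ⊗ V l).hom = y ≫ pullback.fst (g j) (g l) ≫ (U ⊗ V j).hom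
      rw [← Over.w (U ◁ d j), ← Over.w (U ◁ d l), Category.assoc, pullback.condition_assoc])
    have hy : y₁ ≫ (U ◁ d j) = y₂ ≫ (U ◁ d l) := Over.OverMorphism.ext (by
      show (y ≫ _) ≫ g j = (y ≫ _) ≫ g l
      rw [Category.assoc, Category.assoc, pullback.condition])
    exact ((chart j y₁).trans (by rw [hy])).trans (chart l y₂).symm
  obtain ⟨J, hJ, -⟩ := GrothLib.IdealDescFpqc.existsUnique g I hqc hflat hcocycle
  let Z : Over S := Over.mk (J.subschemeι ≫ (U ⊗ T).hom)
  let i : Z ⟶ U ⊗ T := Over.homMk J.subschemeι rfl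
  haveI hi : IsClosedImmersion i.left := inferInstanceAs (IsClosedImmersion J.subschemeι)
  haveI : Mono i := (Over.forget S).mono_of_mono_map (inferInstanceAs (Mono i.left))
  -- points above the charts
  have hfacj : ∀ (j : 𝒰.I₀) {M : Over S} (y : M ⟶ U ⊗ V j),
      (∃ z : M ⟶ Z, z ≫ i = y ≫ (U ◁ d j)) ↔ Compat s t x₀ (y ≫ (U ◁ d j)) := by
    intro j M y
    rw [← chart, ← hJ j, comap_le_ker_iff]
    constructor
    · rintro ⟨z, hz⟩
      have h1 := z.left.le_ker_comp J.subschemeι
      rw [Scheme.IdealSheafData.ker_subschemeι] at h1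
      rw [show y.left ≫ g j = z.left ≫ J.subschemeι from (congrArg CommaMorphism.left hz).symm]
      exact h1
    · intro h
      rw [← J.ker_subschemeι, ← exists_lift_iff_ker_le] at h
      obtain ⟨z, hz⟩ := h
      have e : z ≫ J.subschemeι = (y ≫ (U ◁ d j)).left := hz
      exact ⟨Over.homMk z (by
        show z ≫ J.subschemeι ≫ (U ⊗ T).hom = M.hom
        rw [reassoc_of% e, Over.w]), Over.OverMorphism.ext e⟩
  -- compatibility is local for the charts
  have hloc : ∀ {T' : Over S} (x : T' ⟶ U ⊗ T), ∃ 𝒲 : T'.left.OpenCover, ∀ w, ∃ (j : 𝒰.I₀) (M : Over S)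
      (q : M ⟶ Over.mk (𝒲.f w ≫ T'.hom)) (y : M ⟶ U ⊗ V j), Flat q.left ∧ Surjective q.left ∧ QuasiCompact q.left ∧
        y ≫ (U ◁ d j) = q ≫ Over.homMk (𝒲.f w) rfl ≫ x := by
    intro T' x
    let τ := x ≫ snd U T
    refine ⟨𝒰.pullback₁ τ.left, fun j => ?_⟩
    let T'j : Over S := Over.mk ((𝒰.pullback₁ τ.left).f j ≫ T'.hom)
    let ι' : T'j ⟶ T' := Over.homMk ((𝒰.pullback₁ τ.left).f j) rfl
    let π' : T'j ⟶ Tj j := Over.homMk (pullback.snd τ.left (𝒰.f j)) (by
      show pullback.snd τ.left (𝒰.f j) ≫ 𝒰.f j ≫ T.hom = pullback.fst τ.left (𝒰.f j) ≫ T'.hom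
      rw [← Over.w τ, pullback.condition_assoc])
    let M : Over S := Over.mk (pullback.fst π'.left (c j).left ≫ T'j.hom)
    let q : M ⟶ T'j := Over.homMk (pullback.fst π'.left (c j).left) rfl
    let g' : M ⟶ V j := Over.homMk (pullback.snd π'.left (c j).left) (by
      show _ = pullback.fst π'.left (c j).left ≫ T'j.hom
      rw [← Over.w π', ← Over.w (c j), pullback.condition_assoc])
    have hd : (q ≫ ι') ≫ τ = g' ≫ d j := by
      apply Over.OverMorphism.ext
      show (pullback.fst π'.left (c j).left ≫ pullback.fst τ.left (𝒰.f j)) ≫ τ.left =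
        pullback.snd π'.left (c j).left ≫ (c j).left ≫ 𝒰.f j
      refine (Category.assoc _ _ _).trans ((congrArg (_ ≫ ·) pullback.condition).trans ?_)
      exact (Category.assoc _ _ _).symm.trans ((congrArg (· ≫ 𝒰.f j)
        (pullback.condition (f := π'.left) (g := (c j).left))).trans (Category.assoc _ _ _))
    refine ⟨j, M, q, lift ((q ≫ ι') ≫ x ≫ fst U T) g', bcFst (@Flat) _ _ (hcf j),
      bcFst (@Surjective) _ _ (hcs j), bcFst (@QuasiCompact) _ _ (hcq j), ?_⟩
    show _ = q ≫ ι' ≫ x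
    apply CartesianMonoidalCategory.hom_ext
    · simp [ι']
    · simp only [Category.assoc, whiskerLeft_snd, lift_snd_assoc]
      rw [← hd]
      simp only [τ, Category.assoc]
  have hfac : ∀ {T' : Over S} (x : T' ⟶ U ⊗ T), (∃ z : T' ⟶ Z, z ≫ i = x) ↔ Compat s t x₀ x := by
    intro T' x
    obtain ⟨𝒲, h𝒲⟩ := hloc x
    constructor
    · rintro ⟨z, rfl⟩
      refine ext_of_openCover (T := T') 𝒲 fun w => ?_
      obtain ⟨j, M, q, y, h1, h2, h3, hy⟩ := h𝒲 w
      haveI := h1; haveI := h2; haveI := h3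
      refine ext_of_fpqc (T := Over.mk (𝒲.f w ≫ T'.hom)) q ?_
      have h4 := (hfacj j y).1 ⟨q ≫ Over.homMk (𝒲.f w) rfl ≫ z, by rw [hy]; simp⟩
      rw [hy] at h4
      unfold Compat at h4
      simp only [Category.assoc] at h4 ⊢
      rw [← cls_map, ← cls_map, op_comp, op_comp, Functor.map_comp, Functor.map_comp,
        ConcreteCategory.comp_apply, ConcreteCategory.comp_apply] at h4
      exact h4
    · intro hx
      haveI : IsClosedImmersion (pullback.fst x.left i.left) :=
        MorphismProperty.of_isPullback (P := @IsClosedImmersion) (IsPullback.of_hasPullback x.left i.left).flip hi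
      haveI : IsIso (pullback.fst x.left i.left) := by
        refine isIso_of_sections _ 𝒲 fun w => ?_
        obtain ⟨j, M, q, y, h1, h2, h3, hy⟩ := h𝒲 w
        obtain ⟨z, hz⟩ := (hfacj j y).2 (by rw [hy]; exact (hx.comp s t _).comp s t q)
        refine ⟨M.left, q.left, pullback.lift (q.left ≫ 𝒲.f w) z.left ?_, h1, h2, h3, pullback.lift_fst _ _ _⟩
        rw [hy] at hz
        exact (Category.assoc _ _ _).trans (congrArg CommaMorphism.left hz).symm
      have e : (inv (pullback.fst x.left i.left) ≫ pullback.snd x.left i.left) ≫ i.left = x.left := by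
        rw [Category.assoc, ← pullback.condition, IsIso.inv_hom_id_assoc]
      refine ⟨Over.homMk (inv (pullback.fst x.left i.left) ≫ pullback.snd x.left i.left) ?_, Over.OverMorphism.ext e⟩
      rw [← Over.w i, ← Category.assoc, e, Over.w]
  exact ⟨Z, i, hi, hfac⟩

/-- With a quasi-compact faithfully flat relation the closed stable subscheme is so over the base. -/
theorem exists_closed [IsEquivalenceRelation s t] [Flat s.left] [Surjective s.left] [QuasiCompact s.left]
    (hc : IsClosedImmersion (lift t s).left) (x₀ : (QuotSh.quot K₀ s t).obj.obj (op T)) :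
    ∃ (Z : Over S) (i : Z ⟶ U ⊗ T), IsClosedImmersion i.left ∧
      (∀ {T' : Over S} (x : T' ⟶ U ⊗ T), (∃ z : T' ⟶ Z, z ≫ i = x) ↔ Compat s t x₀ x) ∧
      Flat (i ≫ snd U T).left ∧ Surjective (i ≫ snd U T).left ∧ QuasiCompact (i ≫ snd U T).left := by
  obtain ⟨Z, i, hi, hfac⟩ := exists_closed' s t hc x₀
  haveI := hi
  haveI : Mono i := (Over.forget S).mono_of_mono_map (inferInstanceAs (Mono i.left))
  exact ⟨Z, i, hi, hfac, props_of_factor s t x₀ i hfac⟩

end

end GrothLib.QuotSec13
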