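import Groth.Agent.Lib.QuotSec13.Basic
import Groth.Agent.Lib.GITQuot.Orbit
import Groth.Agent.Lib.AlgSp.FppfDescent
import Groth.Agent.Lib.EtSite.FpqcDescent

/-!
# Sections of the fpqc quotient of an equivalence relation with open graph are open stable subschemes
-/

universe u

set_option backward.isDefEq.respectTransparency.types false

open CategoryTheory CategoryTheory.Limits AlgebraicGeometry Opposite MonoidalCategory CartesianMonoidalCategory

namespace GrothLib.QuotSec13

noncomputable section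

variable {S : Scheme.{u}} {R U : Over S} (s t : R ⟶ U) {T : Over S}

set_option quotPrecheck false in
local notation "K₀" => Scheme.fpqcPrecoverage

/-- A point of `U ⊗ T` is compatible with the section. -/
def Compat (x₀ : (QuotSh.quot K₀ s t).obj.obj (op T)) {T' : Over S} (x : T' ⟶ U ⊗ T) : Prop :=
  cls s t (x ≫ fst U T) = (QuotSh.quot K₀ s t).obj.map (x ≫ snd U T).op x₀

theorem Compat.comp {x₀ : (QuotSh.quot K₀ s t).obj.obj (op T)} {T' T'' : Over S} {x : T' ⟶ U ⊗ T}
    (h : Compat s t x₀ x) (q : T'' ⟶ T') : Compat s t x₀ (q ≫ x) := by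
  unfold Compat at h ⊢
  rw [Category.assoc, Category.assoc, ← cls_map, h, op_comp (f := q), Functor.map_comp, ConcreteCategory.comp_apply]

theorem compat_iff {σ : QuotSh.rep K₀ T ⟶ QuotSh.quot K₀ s t} {T' : Over S} (x : T' ⟶ U ⊗ T) :
    QuotSh.repMap K₀ (x ≫ fst U T) ≫ QuotSh.quotπ K₀ s t = QuotSh.repMap K₀ (x ≫ snd U T) ≫ σ ↔
      Compat s t (elt σ) x := by
  unfold Compat
  rw [← elt_quotπ, ← elt_repMap]
  exact elt_injective.eq_iff.symm

theorem symm_iso [h : IsEquivalenceRelation s t] : ∃ e : R ⟶ R, IsIso e ∧ e ≫ s = t := by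
  obtain ⟨e⟩ := h.nonempty_equivalenceRelation
  refine ⟨e.s, ⟨e.s, ?_, ?_⟩, e.symmetry₁⟩
  all_goals
    refine GrothLib.GrpdQuot.eqv_jointlyMono (s := s) (t := t) _ _ ?_ ?_
    · rw [Category.assoc, e.symmetry₁, e.symmetry₂, Category.id_comp]
    · rw [Category.assoc, e.symmetry₂, e.symmetry₁, Category.id_comp]

theorem props_t [IsEquivalenceRelation s t] [Flat s.left] [Surjective s.left] [QuasiCompact s.left] :
    Flat t.left ∧ Surjective t.left ∧ QuasiCompact t.left := by
  obtain ⟨e, he, h⟩ := symm_iso s t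
  haveI : IsIso e.left := inferInstanceAs (IsIso ((Over.forget S).map e))
  rw [← h, Over.comp_left]
  exact ⟨inferInstance, inferInstance, inferInstance⟩

theorem bcFst (P : MorphismProperty Scheme.{u}) [P.IsStableUnderBaseChange] {X Y Z : Scheme.{u}} (f : X ⟶ Z) (g : Y ⟶ Z)
    (h : P g) : P (pullback.fst f g) :=
  P.of_isPullback (IsPullback.of_hasPullback f g).flip h

theorem bcSnd (P : MorphismProperty Scheme.{u}) [P.IsStableUnderBaseChange] {X Y Z : Scheme.{u}} (f : X ⟶ Z) (g : Y ⟶ Z)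
    (h : P f) : P (pullback.snd f g) :=
  P.of_isPullback (IsPullback.of_hasPullback f g) h

/-- Stable subobjects with a flat surjective quasi-compact projection are determined by the section. -/
theorem factors_iff [IsEquivalenceRelation s t] (x₀ : (QuotSh.quot K₀ s t).obj.obj (op T))
    {Z : Over S} (i : Z ⟶ U ⊗ T) (hi : Compat s t x₀ i)
    (hstab : ∀ (T' : Over S) (r : T' ⟶ R ⊗ T),
      (∃ z : T' ⟶ Z, z ≫ i = r ≫ (s ▷ T)) ↔ (∃ z : T' ⟶ Z, z ≫ i = r ≫ (t ▷ T)))
    [Flat (i ≫ snd U T).left] [Surjective (i ≫ snd U T).left] [QuasiCompact (i ≫ snd U T).left]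
    (hdesc : ∀ {T'' T' : Over S} (q : T'' ⟶ T') (x : T' ⟶ U ⊗ T), Flat q.left → Surjective q.left →
      QuasiCompact q.left → (∃ z : T'' ⟶ Z, z ≫ i = q ≫ x) → ∃ z : T' ⟶ Z, z ≫ i = x)
    {T' : Over S} (x : T' ⟶ U ⊗ T) : (∃ z : T' ⟶ Z, z ≫ i = x) ↔ Compat s t x₀ x := by
  refine ⟨fun ⟨z, hz⟩ => hz ▸ hi.comp s t z, fun hx => ?_⟩
  let τ := x ≫ snd U T
  let ρ := i ≫ snd U T
  let Q : Over S := Over.mk (pullback.fst τ.left ρ.left ≫ T'.hom)
  let q : Q ⟶ T' := Over.homMk (pullback.fst τ.left ρ.left) rfl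
  let z : Q ⟶ Z := Over.homMk (pullback.snd τ.left ρ.left) (by
    show _ = pullback.fst τ.left ρ.left ≫ T'.hom
    rw [← Over.w τ, ← Over.w ρ, pullback.condition_assoc])
  have hzq : z ≫ ρ = q ≫ τ := Over.OverMorphism.ext pullback.condition.symm
  have h1 : cls s t (z ≫ i ≫ fst U T) = cls s t (q ≫ x ≫ fst U T) := by
    have e1 : Compat s t x₀ (z ≫ i) := hi.comp s t z
    have e2 : Compat s t x₀ (q ≫ x) := hx.comp s t q
    unfold Compat at e1 e2
    simp only [Category.assoc] at e1 e2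
    rw [e1, e2]
    exact congrArg (fun g => (QuotSh.quot K₀ s t).obj.map g.op x₀) hzq
  obtain ⟨r, hrs, hrt⟩ := exists_of_cls_eq s t h1
  obtain ⟨z', hz'⟩ := (hstab Q (lift r (q ≫ τ))).1 ⟨z, by
    apply CartesianMonoidalCategory.hom_ext
    · simp [hrs]
    · simp [← hzq, ρ]⟩
  refine hdesc q x ?_ ?_ ?_ ⟨z', hz'.trans ?_⟩
  · exact bcFst (@Flat) _ _ ‹Flat (i ≫ snd U T).left›
  · exact bcFst (@Surjective) _ _ ‹Surjective (i ≫ snd U T).left›
  · exact bcFst (@QuasiCompact) _ _ ‹QuasiCompact (i ≫ snd U T).left›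
  · apply CartesianMonoidalCategory.hom_ext
    · simp [hrt]
    · simp [τ]

theorem exists_factor_iff_range {A B : Over S} (i : A ⟶ B) [IsOpenImmersion i.left] {C : Over S} (x : C ⟶ B) :
    (∃ z : C ⟶ A, z ≫ i = x) ↔ Set.range x.left ⊆ Set.range i.left := by
  constructor
  · rintro ⟨z, rfl⟩
    rintro _ ⟨p, rfl⟩
    exact ⟨z.left p, (Scheme.Hom.comp_apply _ _ _).symm⟩
  · intro h
    refine ⟨Over.homMk (IsOpenImmersion.lift i.left x.left h) ?_, Over.OverMorphism.ext (IsOpenImmersion.lift_fac _ _ _)⟩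
    rw [← Over.w i, IsOpenImmersion.lift_fac_assoc, Over.w]

theorem desc_of_open {A B : Over S} (i : A ⟶ B) [IsOpenImmersion i.left] {T'' T' : Over S} (q : T'' ⟶ T')
    (x : T' ⟶ B) (hq : Surjective q.left) (h : ∃ z : T'' ⟶ A, z ≫ i = q ≫ x) : ∃ z : T' ⟶ A, z ≫ i = x := by
  rw [exists_factor_iff_range] at h ⊢
  rintro _ ⟨p, rfl⟩
  obtain ⟨p', rfl⟩ := q.left.surjective p
  exact h ⟨p', Scheme.Hom.comp_apply _ _ _⟩

theorem prop_whiskerLeft (P : MorphismProperty Scheme.{u}) [P.IsStableUnderBaseChange] (C : Over S) {A B : Over S}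
    (g : A ⟶ B) (h : P g.left) : P (C ◁ g).left := by
  have hp := GrothLib.GITQuot.isPullback_whiskerLeft C g
  exact P.of_isPullback hp h

theorem range_whiskerLeft (C : Over S) {A B : Over S} (g : A ⟶ B) :
    Set.range (C ◁ g).left = (snd C B).left ⁻¹' Set.range g.left :=
  GrothLib.GITQuot.range_eq_preimage (GrothLib.GITQuot.isPullback_whiskerLeft C g).flip

/-- A subobject whose points are the points compatible with a section is faithfully flat and quasi-compact. -/
theorem prop_of_factor [IsEquivalenceRelation s t] (P : MorphismProperty Scheme.{u}) [IsZariskiLocalAtTarget P]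
    [P.IsStableUnderBaseChange] [P.DescendsAlong (@Surjective ⊓ @Flat ⊓ @QuasiCompact)] (hPt : P t.left)
    (x₀ : (QuotSh.quot K₀ s t).obj.obj (op T)) {Z : Over S} (i : Z ⟶ U ⊗ T) [Mono i]
    (hfac : ∀ {T' : Over S} (x : T' ⟶ U ⊗ T), (∃ z : T' ⟶ Z, z ≫ i = x) ↔ Compat s t x₀ x) :
    P (i ≫ snd U T).left := by
  classical
  let 𝒰 := T.left.affineCover
  let Tj : 𝒰.I₀ → Over S := fun j => Over.mk (𝒰.f j ≫ T.hom)
  let ιj : ∀ j, Tj j ⟶ T := fun j => Over.homMk (𝒰.f j) rfl
  have hex : ∀ j, ∃ (V : Over S) (c : V ⟶ Tj j) (v : V ⟶ U), Flat c.left ∧ Surjective c.left ∧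
      QuasiCompact c.left ∧ cls s t v = (QuotSh.quot K₀ s t).obj.map (c ≫ ιj j).op x₀ := by
    intro j
    haveI : IsAffine (Tj j).left := inferInstanceAs (IsAffine (𝒰.X j))
    obtain ⟨V, c, v, hf, hs, hq, hv⟩ := exists_lift_affine s t ((QuotSh.quot K₀ s t).obj.map (ιj j).op x₀)
    refine ⟨V, c, v, hf, hs, hq, ?_⟩
    rw [hv, op_comp, Functor.map_comp, ConcreteCategory.comp_apply]
  choose V c v hcf hcs hcq hv using hex
  let d : ∀ j, V j ⟶ T := fun j => c j ≫ ιj j
  have hi : Compat s t x₀ i := (hfac i).1 ⟨𝟙 Z, Category.id_comp i⟩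
  let ρ := i ≫ snd U T
  -- the pullback to the charts
  have hpb : ∀ j, ∃ (Q : Over S) (zQ : Q ⟶ Z) (pQ : Q ⟶ V j), IsPullback zQ.left pQ.left ρ.left (d j).left ∧
      P pQ.left := by
    intro j
    let Q : Over S := Over.mk (pullback.snd t.left (v j).left ≫ (V j).hom)
    let pQ : Q ⟶ V j := Over.homMk (pullback.snd t.left (v j).left) rfl
    let rQ : Q ⟶ R := Over.homMk (pullback.fst t.left (v j).left) (by
      show _ = pullback.snd t.left (v j).left ≫ (V j).hom
      rw [← Over.w t, ← Over.w (v j), pullback.condition_assoc])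
    have hrQ : rQ ≫ t = pQ ≫ v j := Over.OverMorphism.ext pullback.condition
    obtain ⟨zQ, hzQ⟩ := (hfac (lift (rQ ≫ s) (pQ ≫ d j))).2 (by
      unfold Compat
      rw [lift_fst, lift_snd, cls_condition, hrQ, ← cls_map, hv, ← ConcreteCategory.comp_apply, ← Functor.map_comp,
        ← op_comp])
    have hw : zQ ≫ ρ = pQ ≫ d j := by
      show zQ ≫ i ≫ snd U T = _
      rw [reassoc_of% hzQ, lift_snd]
    have sq : IsPullback zQ pQ ρ (d j) := by
      refine IsPullback.of_isLimit' ⟨hw⟩ ?_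
      have hr : ∀ c' : PullbackCone ρ (d j), ∃ r : c'.pt ⟶ R, r ≫ s = c'.fst ≫ i ≫ fst U T ∧
          r ≫ t = c'.snd ≫ v j := by
        intro c'
        refine exists_of_cls_eq s t ?_
        have h1 : Compat s t x₀ (c'.fst ≫ i) := hi.comp s t _
        unfold Compat at h1
        rw [Category.assoc, Category.assoc] at h1
        rw [h1, show i ≫ snd U T = ρ from rfl, c'.condition, ← cls_map, hv, ← ConcreteCategory.comp_apply,
          ← Functor.map_comp, ← op_comp]
      choose r hrs hrt using hr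
      refine PullbackCone.IsLimit.mk hw
        (fun c' => Over.homMk (pullback.lift (r c').left c'.snd.left (congrArg CommaMorphism.left (hrt c'))) (by
          show pullback.lift _ _ _ ≫ pullback.snd t.left (v j).left ≫ (V j).hom = _
          rw [pullback.lift_snd_assoc, Over.w])) (fun c' => ?_) (fun c' => ?_) (fun c' m hm₁ hm₂ => ?_)
      · rw [← cancel_mono i, Category.assoc, hzQ]
        apply CartesianMonoidalCategory.hom_ext
        · rw [Category.assoc, lift_fst, Category.assoc, ← hrs c', ← Category.assoc]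
          congr 1
          exact Over.OverMorphism.ext (pullback.lift_fst _ _ _)
        · rw [Category.assoc, lift_snd, Category.assoc]
          show _ = c'.fst ≫ ρ
          rw [c'.condition, ← Category.assoc]
          congr 1
          exact Over.OverMorphism.ext (pullback.lift_snd _ _ _)
      · exact Over.OverMorphism.ext (pullback.lift_snd _ _ _)
      · have e : m ≫ rQ = r c' := by
          refine GrothLib.GrpdQuot.eqv_jointlyMono (s := s) (t := t) _ _ ?_ ?_
          · rw [hrs, ← hm₁, Category.assoc, Category.assoc]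
            congr 1
            rw [reassoc_of% hzQ, lift_fst]
          · rw [hrt, Category.assoc, hrQ, ← Category.assoc, hm₂]
        apply Over.OverMorphism.ext
        apply pullback.hom_ext
        · show _ = pullback.lift _ _ _ ≫ pullback.fst t.left (v j).left
          rw [pullback.lift_fst, ← e]
          rfl
        · show _ = pullback.lift _ _ _ ≫ pullback.snd t.left (v j).left
          rw [pullback.lift_snd, ← hm₂]
          rfl
    exact ⟨Q, zQ, pQ, sq.map (Over.forget S), bcSnd P _ _ hPt⟩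
  show P ρ.left
  refine (IsZariskiLocalAtTarget.iff_of_openCover (P := P) 𝒰).2 fun j => ?_
  refine MorphismProperty.of_pullback_snd_of_descendsAlong (P := P) (Q := @Surjective ⊓ @Flat ⊓ @QuasiCompact)
    (f := pullback.snd ρ.left (𝒰.f j)) (g := (c j).left) ⟨⟨hcs j, hcf j⟩, hcq j⟩ ?_
  obtain ⟨Q, zQ, pQ, hsq, h1⟩ := hpb j
  have hsq' : IsPullback (pullback.fst (pullback.snd ρ.left (𝒰.f j)) (c j).left ≫ pullback.fst ρ.left (𝒰.f j))
      (pullback.snd (pullback.snd ρ.left (𝒰.f j)) (c j).left) ρ.left (d j).left :=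
    (IsPullback.of_hasPullback _ _).paste_horiz (IsPullback.of_hasPullback ρ.left (𝒰.f j))
  rw [← P.cancel_left_of_respectsIso (hsq.isoIsPullback _ _ hsq').hom, IsPullback.isoIsPullback_hom_snd]
  exact h1

/-- A subobject whose points are the points compatible with a section is faithfully flat and quasi-compact. -/
theorem props_of_factor [IsEquivalenceRelation s t] [Flat s.left] [Surjective s.left] [QuasiCompact s.left]
    (x₀ : (QuotSh.quot K₀ s t).obj.obj (op T)) {Z : Over S} (i : Z ⟶ U ⊗ T) [Mono i]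
    (hfac : ∀ {T' : Over S} (x : T' ⟶ U ⊗ T), (∃ z : T' ⟶ Z, z ≫ i = x) ↔ Compat s t x₀ x) :
    Flat (i ≫ snd U T).left ∧ Surjective (i ≫ snd U T).left ∧ QuasiCompact (i ≫ snd U T).left := by
  obtain ⟨htf, hts, htq⟩ := props_t s t
  haveI := HasRingHomProperty.descendsAlong_flat (P := @Flat) GrothLib.AlgSp.codescendsAlong_flat.{u}
  haveI : MorphismProperty.DescendsAlong (@QuasiCompact : MorphismProperty Scheme.{u}) (@Surjective ⊓ @Flat ⊓ @QuasiCompact) :=
    GrothLib.EtSite.descendsAlong_quasiCompact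
  exact ⟨prop_of_factor s t @Flat htf x₀ i hfac, prop_of_factor s t @Surjective hts x₀ i hfac,
    prop_of_factor s t @QuasiCompact htq x₀ i hfac⟩

/-- Sections of the quotient by an equivalence relation with open graph are open stable subschemes. -/
theorem exists_open [IsEquivalenceRelation s t] [Flat s.left] [Surjective s.left] [QuasiCompact s.left]
    (hc : IsOpenImmersion (lift t s).left) (x₀ : (QuotSh.quot K₀ s t).obj.obj (op T)) :
    ∃ (Z : Over S) (i : Z ⟶ U ⊗ T), IsOpenImmersion i.left ∧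
      (∀ {T' : Over S} (x : T' ⟶ U ⊗ T), (∃ z : T' ⟶ Z, z ≫ i = x) ↔ Compat s t x₀ x) ∧
      Flat (i ≫ snd U T).left ∧ Surjective (i ≫ snd U T).left ∧ QuasiCompact (i ≫ snd U T).left := by
  classical
  haveI := hc
  let 𝒰 := T.left.affineCover
  let Tj : 𝒰.I₀ → Over S := fun j => Over.mk (𝒰.f j ≫ T.hom)
  let ιj : ∀ j, Tj j ⟶ T := fun j => Over.homMk (𝒰.f j) rfl
  have hex : ∀ j, ∃ (V : Over S) (c : V ⟶ Tj j) (v : V ⟶ U), Flat c.left ∧ Surjective c.left ∧
      QuasiCompact c.left ∧ cls s t v = (QuotSh.quot K₀ s t).obj.map (c ≫ ιj j).op x₀ := by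
    intro j
    haveI : IsAffine (Tj j).left := inferInstanceAs (IsAffine (𝒰.X j))
    obtain ⟨V, c, v, hf, hs, hq, hv⟩ := exists_lift_affine s t ((QuotSh.quot K₀ s t).obj.map (ιj j).op x₀)
    refine ⟨V, c, v, hf, hs, hq, ?_⟩
    rw [hv, op_comp, Functor.map_comp, ConcreteCategory.comp_apply]
  choose V c v hcf hcs hcq hv using hex
  let d : ∀ j, V j ⟶ T := fun j => c j ≫ ιj j
  let Z' : ∀ j, (U ⊗ V j).left.Opens := fun j =>
    (lift (snd U (V j) ≫ v j) (fst U (V j))).left ⁻¹ᵁ (lift t s).left.opensRange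
  -- the charts
  have chart : ∀ (j : 𝒰.I₀) {M : Over S} (y : M ⟶ U ⊗ V j),
      Set.range y.left ⊆ (Z' j : Set (U ⊗ V j).left) ↔ Compat s t x₀ (y ≫ (U ◁ d j)) := by
    intro j M y
    have e : Set.range y.left ⊆ (Z' j : Set (U ⊗ V j).left) ↔
        ∃ r : M ⟶ R, r ≫ lift t s = y ≫ lift (snd U (V j) ≫ v j) (fst U (V j)) := by
      rw [exists_factor_iff_range, Over.comp_left]
      constructor
      · rintro h _ ⟨p, rfl⟩
        rw [Scheme.Hom.comp_apply]
        exact h ⟨p, rfl⟩
      · rintro h _ ⟨p, rfl⟩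
        have h1 := h ⟨p, rfl⟩
        rw [Scheme.Hom.comp_apply] at h1
        exact h1
    rw [e]
    unfold Compat
    simp only [Category.assoc, whiskerLeft_fst, whiskerLeft_snd]
    have hv' : (QuotSh.quot K₀ s t).obj.map (y ≫ snd U (V j) ≫ d j).op x₀ = cls s t (y ≫ snd U (V j) ≫ v j) := by
      rw [← Category.assoc y, ← Category.assoc y, ← cls_map (g := y ≫ snd U (V j)), hv, op_comp,
        Functor.map_comp, ConcreteCategory.comp_apply]
    rw [hv']
    constructor
    · rintro ⟨r, hr⟩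
      have h1 := congrArg (· ≫ fst U U) hr
      have h2 := congrArg (· ≫ snd U U) hr
      simp only [Category.assoc, lift_fst, lift_snd] at h1 h2
      rw [← h1, ← h2, cls_condition]
    · intro h
      obtain ⟨r, hrs, hrt⟩ := exists_of_cls_eq s t h
      refine ⟨r, ?_⟩
      apply CartesianMonoidalCategory.hom_ext
      · simpa using hrt
      · simpa using hrs
  -- the charts agree
  have inv : ∀ (j l : 𝒰.I₀) (y₁ : (U ⊗ V j).left) (y₂ : (U ⊗ V l).left),
      (U ◁ d j).left y₁ = (U ◁ d l).left y₂ → y₁ ∈ Z' j → y₂ ∈ Z' l := by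
    intro j l y₁ y₂ he h1
    obtain ⟨y, hy₁, hy₂⟩ := Scheme.Pullback.exists_preimage_pullback y₁ y₂ he
    let p₁ := pullback.fst (U ◁ d j).left (U ◁ d l).left
    let p₂ := pullback.snd (U ◁ d j).left (U ◁ d l).left
    let O := p₁ ⁻¹ᵁ Z' j
    let M : Over S := Over.mk (O.ι ≫ p₁ ≫ (U ⊗ V j).hom)
    let m₁ : M ⟶ U ⊗ V j := Over.homMk (O.ι ≫ p₁) (Category.assoc _ _ _)
    let m₂ : M ⟶ U ⊗ V l := Over.homMk (O.ι ≫ p₂) (by
      show (O.ι ≫ p₂) ≫ (U ⊗ V l).hom = O.ι ≫ p₁ ≫ (U ⊗ V j).hom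
      rw [← Over.w (U ◁ d j), ← Over.w (U ◁ d l), Category.assoc, pullback.condition_assoc])
    have hm : m₁ ≫ (U ◁ d j) = m₂ ≫ (U ◁ d l) := Over.OverMorphism.ext (by
      show (O.ι ≫ p₁) ≫ _ = (O.ι ≫ p₂) ≫ _
      rw [Category.assoc, Category.assoc, pullback.condition])
    have h2 : Compat s t x₀ (m₁ ≫ (U ◁ d j)) := (chart j m₁).1 (by
      rintro _ ⟨p, rfl⟩
      exact p.2)
    rw [hm] at h2
    have hyO : y ∈ O := by
      show p₁ y ∈ Z' j
      rw [hy₁]; exact h1
    have := (chart l m₂).2 h2 ⟨⟨y, hyO⟩, rfl⟩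
    rw [← hy₂]
    exact this
  -- the open set
  let Ws : Set (U ⊗ T).left := ⋃ j, (U ◁ d j).left '' (Z' j : Set (U ⊗ V j).left)
  have hpre : ∀ l, (U ◁ d l).left ⁻¹' Ws = (Z' l : Set (U ⊗ V l).left) := by
    intro l
    ext y₂
    refine ⟨fun h => ?_, fun h => Set.mem_iUnion.2 ⟨l, y₂, h, rfl⟩⟩
    obtain ⟨j, y₁, h1, he⟩ := Set.mem_iUnion.1 h
    exact inv j l y₁ y₂ he h1
  have hWo : IsOpen Ws := by
    have hj : ∀ j, IsOpen ((U ◁ ιj j).left '' ((U ◁ ιj j).left ⁻¹' Ws)) := by
      intro j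
      haveI : IsOpenImmersion (U ◁ ιj j).left :=
        prop_whiskerLeft @IsOpenImmersion U (ιj j) (inferInstanceAs (IsOpenImmersion (𝒰.f j)))
      haveI : Flat (U ◁ c j).left := prop_whiskerLeft @Flat U (c j) (hcf j)
      haveI : Surjective (U ◁ c j).left := prop_whiskerLeft @Surjective U (c j) (hcs j)
      haveI : QuasiCompact (U ◁ c j).left := prop_whiskerLeft @QuasiCompact U (c j) (hcq j)
      apply (U ◁ ιj j).left.isOpenEmbedding.isOpenMap
      rw [← (Flat.isQuotientMap_of_surjective (U ◁ c j).left).isOpen_preimage]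
      have e : (U ◁ c j).left ⁻¹' ((U ◁ ιj j).left ⁻¹' Ws) = (U ◁ d j).left ⁻¹' Ws := by
        ext y
        simp only [Set.mem_preimage, d, MonoidalCategory.whiskerLeft_comp, Over.comp_left, Scheme.Hom.comp_apply]
      rw [e, hpre]
      exact (Z' j).2
    rw [show Ws = ⋃ j, (U ◁ ιj j).left '' ((U ◁ ιj j).left ⁻¹' Ws) from ?_]
    · exact isOpen_iUnion hj
    refine Set.Subset.antisymm (fun w hw => ?_) (Set.iUnion_subset fun j => Set.image_preimage_subset _ _)
    obtain ⟨j, p, hp⟩ := 𝒰.exists_eq ((snd U T).left w)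
    have h1 : w ∈ Set.range (U ◁ ιj j).left := by
      rw [range_whiskerLeft]
      exact ⟨p, hp⟩
    obtain ⟨y, rfl⟩ := h1
    exact Set.mem_iUnion.2 ⟨j, y, hw, rfl⟩
  let W : (U ⊗ T).left.Opens := ⟨Ws, hWo⟩
  -- the points of the open set
  have hpts : ∀ {T' : Over S} (x : T' ⟶ U ⊗ T), Compat s t x₀ x ↔ Set.range x.left ⊆ Ws := by
    intro T' x
    let τ := x ≫ snd U T
    have hlift : ∀ (j : 𝒰.I₀) {M : Over S} (q : M ⟶ T') (g : M ⟶ V j), q ≫ τ = g ≫ d j →
        lift (q ≫ x ≫ fst U T) g ≫ (U ◁ d j) = q ≫ x := by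
      intro j M q g h
      apply CartesianMonoidalCategory.hom_ext
      · simp
      · simp [← h, τ]
    constructor
    · intro hx
      rintro _ ⟨p, rfl⟩
      obtain ⟨j, p', hp'⟩ := 𝒰.exists_eq (τ.left p)
      haveI := hcs j
      obtain ⟨v₀, hv₀⟩ := (c j).left.surjective p'
      have hd : τ.left p = (d j).left v₀ := by
        show _ = ((c j).left ≫ 𝒰.f j) v₀
        rw [Scheme.Hom.comp_apply, hv₀]
        exact hp'.symm
      obtain ⟨y, hy₁, hy₂⟩ := Scheme.Pullback.exists_preimage_pullback p v₀ hd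
      let M : Over S := Over.mk (pullback.fst τ.left (d j).left ≫ T'.hom)
      let q : M ⟶ T' := Over.homMk (pullback.fst τ.left (d j).left) rfl
      let g : M ⟶ V j := Over.homMk (pullback.snd τ.left (d j).left) (by
        show _ = pullback.fst τ.left (d j).left ≫ T'.hom
        rw [← Over.w τ, ← Over.w (d j), pullback.condition_assoc])
      have e := hlift j q g (Over.OverMorphism.ext pullback.condition)
      have h1 := (chart j (lift (q ≫ x ≫ fst U T) g)).2 (by rw [e]; exact hx.comp s t q) ⟨y, rfl⟩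
      refine Set.mem_iUnion.2 ⟨j, _, h1, ?_⟩
      have e' := congrArg (fun m => m.left y) e
      simp only [Over.comp_left, Scheme.Hom.comp_apply] at e'
      rw [e', show q.left y = p from hy₁]
    · intro hx
      refine ext_of_openCover (T := T') (𝒰.pullback₁ τ.left) fun j => ?_
      let T'j : Over S := Over.mk ((𝒰.pullback₁ τ.left).f j ≫ T'.hom)
      let ι' : T'j ⟶ T' := Over.homMk ((𝒰.pullback₁ τ.left).f j) rfl
      let π' : T'j ⟶ Tj j := Over.homMk (pullback.snd τ.left (𝒰.f j)) (by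
        show pullback.snd τ.left (𝒰.f j) ≫ 𝒰.f j ≫ T.hom = pullback.fst τ.left (𝒰.f j) ≫ T'.hom
        rw [← Over.w τ, pullback.condition_assoc])
      let M : Over S := Over.mk (pullback.fst π'.left (c j).left ≫ T'j.hom)
      let q : M ⟶ T'j := Over.homMk (pullback.fst π'.left (c j).left) rfl
      let g : M ⟶ V j := Over.homMk (pullback.snd π'.left (c j).left) (by
        show _ = pullback.fst π'.left (c j).left ≫ T'j.hom
        rw [← Over.w π', ← Over.w (c j), pullback.condition_assoc])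
      haveI : Flat q.left := bcFst (@Flat) _ _ (hcf j)
      haveI : Surjective q.left := bcFst (@Surjective) _ _ (hcs j)
      haveI : QuasiCompact q.left := bcFst (@QuasiCompact) _ _ (hcq j)
      refine ext_of_fpqc (T := T'j) q ?_
      have e := hlift j (q ≫ ι') g (by
        apply Over.OverMorphism.ext
        show (pullback.fst π'.left (c j).left ≫ pullback.fst τ.left (𝒰.f j)) ≫ τ.left =
          pullback.snd π'.left (c j).left ≫ (c j).left ≫ 𝒰.f j
        refine (Category.assoc _ _ _).trans ((congrArg (_ ≫ ·) pullback.condition).trans ?_)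
        exact (Category.assoc _ _ _).symm.trans ((congrArg (· ≫ 𝒰.f j) (pullback.condition (f := π'.left) (g := (c j).left))).trans (Category.assoc _ _ _)))
      have h1 : Compat s t x₀ ((q ≫ ι') ≫ x) := by
        rw [← e]
        refine (chart j _).1 ?_
        rw [← hpre j]
        rintro _ ⟨p, rfl⟩
        have e' := congrArg (fun m => m.left p) e
        simp only [Over.comp_left, Scheme.Hom.comp_apply] at e'
        show (U ◁ d j).left _ ∈ Ws
        rw [e']
        exact hx ⟨_, rfl⟩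
      unfold Compat at h1
      simp only [Category.assoc] at h1
      rw [← cls_map, ← cls_map, op_comp, op_comp, Functor.map_comp, Functor.map_comp,
        ConcreteCategory.comp_apply, ConcreteCategory.comp_apply] at h1
      exact h1
  let Z : Over S := Over.mk (W.ι ≫ (U ⊗ T).hom)
  let i : Z ⟶ U ⊗ T := Over.homMk W.ι rfl
  haveI : IsOpenImmersion i.left := inferInstanceAs (IsOpenImmersion W.ι)
  have hfac : ∀ {T' : Over S} (x : T' ⟶ U ⊗ T), (∃ z : T' ⟶ Z, z ≫ i = x) ↔ Compat s t x₀ x := by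
    intro T' x
    rw [exists_factor_iff_range, hpts, show Set.range i.left = Ws from Scheme.Opens.range_ι W]
  haveI : Mono i := (Over.forget S).mono_of_mono_map (inferInstanceAs (Mono i.left))
  exact ⟨Z, i, inferInstance, hfac, props_of_factor s t x₀ i hfac⟩

end

end GrothLib.QuotSec13
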